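import Mathlib
import Groth.Prelude.Def_W4c2isonaturalstkIso
import Groth.Agent.Lib.Helper10.AlgStQCTop
import Groth.Agent.Lib.Helper10.AlgStPtsSurj

/-!
# The map on points induced by an isomorphism of presheaves of isomorphism classes
-/

set_option autoImplicit false
set_option backward.isDefEq.respectTransparency false
set_option backward.isDefEq.respectTransparency.types false

universe u

open CategoryTheory CategoryTheory.Limits AlgebraicGeometry Opposite Functor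

namespace Groth.Agent.Lib.Helper16.IsoNatPts

open IsoNat Groth.Agent.Lib.Helper10.Fib

variable {S : Scheme.{u}} {𝒳 𝒴 : AlgSt.Cat S}

theorem cls_eq_iff {T : Over S} (x y : 𝒳.p.Fiber T) : cls x = cls y ↔ Nonempty (x ≅ y) :=
  ⟨fun h => Quotient.exact h, fun h => Quotient.sound h⟩

theorem exists_cls {T : Over S} (c : IsoCl 𝒳 T) : ∃ x : 𝒳.p.Fiber T, cls x = c :=
  Quotient.exists_rep c

/-- The object of the fibre category defined by a field valued point. -/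
def fib (p : AlgSt.FPt 𝒳) : 𝒳.p.Fiber (Over.mk p.str) := ⟨p.obj, p.lies⟩

/-- A chosen object in the class corresponding to the class of `x`. -/
noncomputable def repObj (φ : FIso 𝒳 𝒴) {T : Over S} (x : 𝒳.p.Fiber T) : 𝒴.p.Fiber T :=
  Classical.choose (exists_cls (φ.toEquiv T (cls x)))

theorem cls_repObj (φ : FIso 𝒳 𝒴) {T : Over S} (x : 𝒳.p.Fiber T) :
    cls (repObj φ x) = φ.toEquiv T (cls x) :=
  Classical.choose_spec (exists_cls (φ.toEquiv T (cls x)))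

/-- The map on field valued points. -/
noncomputable def fptMap (φ : FIso 𝒳 𝒴) (p : AlgSt.FPt 𝒳) : AlgSt.FPt 𝒴 :=
  { K := p.K, str := p.str, obj := (repObj φ (fib p)).1, lies := (repObj φ (fib p)).2 }

/-- The morphism of the base below a morphism between the objects of two field valued points. -/
noncomputable def baseHom {p q : AlgSt.FPt 𝒳} (a : p.obj ⟶ q.obj) : Over.mk p.str ⟶ Over.mk q.str :=
  eqToHom p.lies.symm ≫ 𝒳.p.map a ≫ eqToHom q.lies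

theorem isHomLift_baseHom {p q : AlgSt.FPt 𝒳} (a : p.obj ⟶ q.obj) :
    𝒳.p.IsHomLift (baseHom a) a :=
  IsHomLift.of_fac 𝒳.p _ a p.lies q.lies rfl

theorem rel_fptMap (φ : FIso 𝒳 𝒴) {p q : AlgSt.FPt 𝒳} (h : AlgSt.FPt.Rel p q) :
    AlgSt.FPt.Rel (fptMap φ p) (fptMap φ q) := by
  obtain ⟨r, a, b, -⟩ := h
  obtain ⟨y'a, ya, ba, -, h1a, h2a⟩ :=
    φ.natural (baseHom a) (fib r) (fib p) a (isHomLift_baseHom a)
  obtain ⟨y'b, yb, bb, -, h1b, h2b⟩ :=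
    φ.natural (baseHom b) (fib r) (fib q) b (isHomLift_baseHom b)
  obtain ⟨ea⟩ := (cls_eq_iff ya (repObj φ (fib p))).1
    (h2a.symm.trans (cls_repObj φ (fib p)).symm)
  obtain ⟨eb⟩ := (cls_eq_iff yb (repObj φ (fib q))).1
    (h2b.symm.trans (cls_repObj φ (fib q)).symm)
  obtain ⟨e'⟩ := (cls_eq_iff y'a y'b).1 (h1a.symm.trans h1b)
  exact ⟨⟨r.K, r.str, y'a.1, y'a.2⟩, ba ≫ ea.hom.1, e'.hom.1 ≫ bb ≫ eb.hom.1, trivial⟩

/-- The map on points induced by an isomorphism of presheaves of isomorphism classes. -/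
noncomputable def ptsMap (φ : FIso 𝒳 𝒴) : AlgSt.Points 𝒳 → AlgSt.Points 𝒴 :=
  Quot.lift (fun p => AlgSt.Points.mk (fptMap φ p))
    (fun _ _ h => AlgSt.Points.sound (rel_fptMap φ h))

theorem ptsMap_mk (φ : FIso 𝒳 𝒴) (p : AlgSt.FPt 𝒳) :
    ptsMap φ (AlgSt.Points.mk p) = AlgSt.Points.mk (fptMap φ p) := rfl

theorem ptsMap_mk_of_cls (φ : FIso 𝒳 𝒴) (p : AlgSt.FPt 𝒳) (y : 𝒴.p.Fiber (Over.mk p.str))
    (h : φ.toEquiv _ (cls (fib p)) = cls y) :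
    ptsMap φ (AlgSt.Points.mk p) = AlgSt.Points.mk ⟨p.K, p.str, y.1, y.2⟩ := by
  obtain ⟨e⟩ := (cls_eq_iff (repObj φ (fib p)) y).1 ((cls_repObj φ (fib p)).trans h)
  exact AlgSt.Points.sound ⟨fptMap φ p, 𝟙 _, e.hom.1, trivial⟩

theorem ptsMap_surjective (φ : FIso 𝒳 𝒴) : Function.Surjective (ptsMap φ) := by
  intro ζ
  obtain ⟨q, rfl⟩ := AlgSt.Points.mk_surjective ζ
  obtain ⟨x, hx⟩ := exists_cls ((φ.toEquiv (Over.mk q.str)).symm (cls (fib q)))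
  refine ⟨AlgSt.Points.mk ⟨q.K, q.str, x.1, x.2⟩, ?_⟩
  have h : φ.toEquiv _ (cls (fib (⟨q.K, q.str, x.1, x.2⟩ : AlgSt.FPt 𝒳))) = cls (fib q) := by
    show φ.toEquiv _ (cls x) = cls (fib q)
    rw [hx, Equiv.apply_symm_apply]
  exact ptsMap_mk_of_cls φ ⟨q.K, q.str, x.1, x.2⟩ (fib q) h

/-- The bijections of isomorphism classes commute with restriction. -/
theorem toEquiv_cls_of_hom (h𝒴 : FibCat.IsFibGrpd 𝒴.p) (φ : FIso 𝒳 𝒴) {T' T : Over S}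
    (g : T' ⟶ T) (x' : 𝒳.p.Fiber T') (x : 𝒳.p.Fiber T) (a : x'.1 ⟶ x.1)
    (ha : 𝒳.p.IsHomLift g a) (y' : 𝒴.p.Fiber T') (y : 𝒴.p.Fiber T) (b : y'.1 ⟶ y.1)
    (hb : 𝒴.p.IsHomLift g b) (hxy : φ.toEquiv T (cls x) = cls y) :
    φ.toEquiv T' (cls x') = cls y' := by
  obtain ⟨y₁', y₁, b₁, hb₁, h1, h2⟩ := φ.natural g x' x a ha
  obtain ⟨e⟩ := (cls_eq_iff y₁ y).1 (h2.symm.trans hxy)
  rw [h1, cls_eq_iff]
  haveI := hb
  haveI := hb₁
  haveI : 𝒴.p.IsHomLift (𝟙 T) e.hom.1 := e.hom.2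
  haveI : 𝒴.p.IsHomLift g (b₁ ≫ e.hom.1) := inferInstance
  haveI := IsFibGrpd.sc h𝒴 g b
  obtain ⟨χ, ⟨hχ1, -⟩, -⟩ := IsStronglyCartesian.universal_property 𝒴.p g b (𝟙 T') g
    (Category.id_comp g).symm (b₁ ≫ e.hom.1)
  haveI := IsFibGrpd.isGroupoid_fiber h𝒴 T'
  exact ⟨@asIso _ _ _ _ (⟨χ, hχ1⟩ : y₁' ⟶ y') (IsGroupoid.all_isIso _)⟩

theorem ptsMap_ofChart (h𝒴 : FibCat.IsFibGrpd 𝒴.p) (φ : FIso 𝒳 𝒴) {U : Over S}
    (x : FibCat.overCat U ⥤ᵇ 𝒳) (y : FibCat.overCat U ⥤ᵇ 𝒴)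
    (hxy : φ.toEquiv U (objCls x) = objCls y) (t : ↥U.left) :
    ptsMap φ (AlgSt.Points.ofChart x t) = AlgSt.Points.ofChart y t := by
  let A : Over U := Over.mk (Over.homMk (U.left.fromSpecResidueField t) rfl :
    Over.mk (U.left.fromSpecResidueField t ≫ U.hom) ⟶ U)
  have key := toEquiv_cls_of_hom h𝒴 φ (homU U A) ⟨x.obj A, x.w_obj A⟩
    ⟨x.obj (Over.mk (𝟙 U)), x.w_obj _⟩ (x.map (toTerminal U A)) (isHomLift_toTerminal U x A)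
    ⟨y.obj A, y.w_obj A⟩ ⟨y.obj (Over.mk (𝟙 U)), y.w_obj _⟩ (y.map (toTerminal U A))
    (isHomLift_toTerminal U y A) hxy
  exact ptsMap_mk_of_cls φ
    { K := ↥(U.left.residueField t)
      str := U.left.fromSpecResidueField t ≫ U.hom
      obj := x.obj A
      lies := x.w_obj A } ⟨y.obj A, y.w_obj A⟩ key

theorem exists_chart_of_cls (h𝒴 : FibCat.IsFibGrpd 𝒴.p) {U : Over S} (c : IsoCl 𝒴 U) :
    ∃ y : FibCat.overCat U ⥤ᵇ 𝒴, objCls y = c := by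
  obtain ⟨y₀, rfl⟩ := exists_cls c
  obtain ⟨G, -, ⟨i⟩⟩ := yoneda_essSurj U y₀ (fun V g => IsFibGrpd.exists_lift' h𝒴 y₀.2 g)
  exact ⟨G, (cls_eq_iff _ _).2 ⟨i⟩⟩

theorem continuous_ptsMap (h𝒴 : AlgSt.IsAlgStack Scheme.fppfPrecoverage 𝒴) (φ : FIso 𝒳 𝒴) :
    Continuous (ptsMap φ) := by
  refine ⟨fun W hW => ?_⟩
  rw [AlgSt.Points.isOpen_iff]
  intro U x _
  obtain ⟨y, hy⟩ := exists_chart_of_cls h𝒴.isStack.1 (φ.toEquiv U (objCls x))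
  have : AlgSt.Points.ofChart x ⁻¹' (ptsMap φ ⁻¹' W) = AlgSt.Points.ofChart y ⁻¹' W := by
    ext t
    simp only [Set.mem_preimage]
    rw [ptsMap_ofChart h𝒴.isStack.1 φ x y hy.symm t]
  rw [this]
  exact (H10PT.continuous_ofChart h𝒴 y).isOpen_preimage W hW

theorem ptsMap_map {𝒳' 𝒴' : AlgSt.Cat S} (f : 𝒳 ⥤ᵇ 𝒴) (f' : 𝒳' ⥤ᵇ 𝒴') (φ : FIsoSq f f')
    (ξ : AlgSt.Points 𝒳) :
    ptsMap φ.tgt (AlgSt.Points.map f ξ) = AlgSt.Points.map f' (ptsMap φ.src ξ) := by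
  obtain ⟨p, rfl⟩ := AlgSt.Points.mk_surjective ξ
  have h := φ.comm (Over.mk p.str) (cls (fib p))
  rw [← cls_repObj φ.src (fib p)] at h
  exact ptsMap_mk_of_cls φ.tgt (p.map f)
    ⟨f'.obj (repObj φ.src (fib p)).1, (f'.w_obj _).trans (repObj φ.src (fib p)).2⟩ h

/-- S15472: quasi-compactness is detected by the presheaf of isomorphism classes. -/
theorem isQuasiCompact_of_fiso (h𝒳 : AlgSt.IsAlgStack Scheme.fppfPrecoverage 𝒳)
    (h𝒴 : AlgSt.IsAlgStack Scheme.fppfPrecoverage 𝒴) (φ : FIso 𝒳 𝒴)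
    (hqc : AlgSt.IsQuasiCompact 𝒳) : AlgSt.IsQuasiCompact 𝒴 := by
  haveI := H10PT.compactSpace_points_of_isQuasiCompact h𝒳 hqc
  haveI : CompactSpace (AlgSt.Points 𝒴) := by
    constructor
    rw [← Set.range_eq_univ.2 (ptsMap_surjective φ)]
    exact isCompact_range (continuous_ptsMap h𝒴 φ)
  exact H10PT.isQuasiCompact_of_compactSpace_points h𝒴

/-- S15477: surjectivity is detected by the map of presheaves of isomorphism classes. -/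
theorem surjective_of_fisoSq {𝒳' 𝒴' : AlgSt.Cat S} (h𝒴 : FibCat.IsFibGrpd 𝒴.p)
    (h𝒳' : FibCat.IsFibGrpd 𝒳'.p) (h𝒴' : FibCat.IsFibGrpd 𝒴'.p) (f : 𝒳 ⥤ᵇ 𝒴) (f' : 𝒳' ⥤ᵇ 𝒴')
    (φ : FIsoSq f f') (hf' : AlgSt.RepByAlgSp1 f')
    (hf : AlgSt.RepByAlgSpWith AlgSp.IsSurjectiveMor f) :
    AlgSt.RepByAlgSpWith AlgSp.IsSurjectiveMor f' := by
  have hs := H10PT.isSurjective_of_rep h𝒴 f hf
  refine H10PT.rep_of_isSurjective h𝒳' h𝒴' f' hf' (fun ζ' => ?_)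
  obtain ⟨ζ, rfl⟩ := ptsMap_surjective φ.tgt ζ'
  obtain ⟨ξ, rfl⟩ := hs ζ
  exact ⟨ptsMap φ.src ξ, (ptsMap_map f f' φ ξ).symm⟩

end Groth.Agent.Lib.Helper16.IsoNatPts
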