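import Mathlib
import Groth.Agent.Lib.Helper16.IsoNat.Pts
import Groth.Agent.Lib.Helper10.AlgStOpenImage
import Groth.Agent.Lib.Helper10.AlgStQCSelf
import Groth.Agent.Lib.Helper10.AlgStPtsOpen
import Groth.Agent.Lib.Helper10.AlgStPtsFib
import Groth.Agent.S12763

/-!
# Quasi-compact morphisms of algebraic stacks, topologically (helper16)

* `symmFIso`: the inverse of an isomorphism of presheaves of isomorphism classes, and
  `ptsMap_symm_left/right`: the induced maps on points are mutually inverse.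
* `isCompact_preimage_of_forall_openImm`, `isQuasiCompactMor_of_isCompact_preimage`: over a
  quasi-separated base a morphism to a stack with quasi-compact diagonal is quasi-compact iff the
  preimage of every quasi-compact open subset of the space of points is quasi-compact.
* `isQuasiCompactMor_of_fIsoSq` (S15480).
-/

set_option autoImplicit false
set_option backward.isDefEq.respectTransparency false
set_option backward.isDefEq.respectTransparency.types false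

universe u

open CategoryTheory CategoryTheory.Limits AlgebraicGeometry Opposite Functor

namespace Groth.Agent.Lib.Helper16.IsoNatQC

open IsoNat H10PT Groth.Agent.Lib.Helper10.Fib Groth.Agent.Lib.Helper10.AlgStRep
open Groth.Agent.Lib.Helper28.AlgSt.Key
open Groth.Agent.Lib.Helper16.IsoNatPts

variable {S : Scheme.{u}} {𝒳 𝒴 𝒵 : AlgSt.Cat S}

/-- The inverse of an isomorphism of presheaves of isomorphism classes. -/
noncomputable def symmFIso (h𝒳 : FibCat.IsFibGrpd 𝒳.p) (h𝒴 : FibCat.IsFibGrpd 𝒴.p)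
    (φ : FIso 𝒳 𝒴) : FIso 𝒴 𝒳 where
  toEquiv T := (φ.toEquiv T).symm
  natural := by
    intro T' T g y' y b hb
    obtain ⟨x, hx⟩ := exists_cls ((φ.toEquiv T).symm (cls y))
    obtain ⟨x₀, a, ha⟩ := IsFibGrpd.exists_lift' h𝒳 x.2 g
    haveI : 𝒳.p.IsHomLift g a := ha.toIsHomLift
    have hxy : φ.toEquiv T (cls x) = cls y := by rw [hx, Equiv.apply_symm_apply]
    have hdom : 𝒳.p.obj x₀ = T' := IsHomLift.domain_eq 𝒳.p g a
    refine ⟨⟨x₀, hdom⟩, x, a, inferInstance, ?_, hx.symm⟩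
    have key := toEquiv_cls_of_hom h𝒴 φ g ⟨x₀, hdom⟩ x a inferInstance y' y b hb hxy
    rw [← key, Equiv.symm_apply_apply]

theorem ptsMap_ptsMap_of_inv (φ : FIso 𝒳 𝒴) (ψ : FIso 𝒴 𝒳)
    (h : ∀ T c, ψ.toEquiv T (φ.toEquiv T c) = c) (ξ : AlgSt.Points 𝒳) :
    ptsMap ψ (ptsMap φ ξ) = ξ := by
  obtain ⟨p, rfl⟩ := AlgSt.Points.mk_surjective ξ
  rw [ptsMap_mk]
  have h1 : ψ.toEquiv _ (cls (fib (fptMap φ p))) = cls (fib p) := by
    have h2 : cls (fib (fptMap φ p)) = φ.toEquiv _ (cls (fib p)) := cls_repObj φ (fib p)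
    rw [h2]
    exact h _ _
  exact ptsMap_mk_of_cls ψ (fptMap φ p) (fib p) h1

theorem ptsMap_symm_left (h𝒳 : FibCat.IsFibGrpd 𝒳.p) (h𝒴 : FibCat.IsFibGrpd 𝒴.p)
    (φ : FIso 𝒳 𝒴) (ξ : AlgSt.Points 𝒳) : ptsMap (symmFIso h𝒳 h𝒴 φ) (ptsMap φ ξ) = ξ :=
  ptsMap_ptsMap_of_inv φ _ (fun T c => (φ.toEquiv T).symm_apply_apply c) ξ

theorem ptsMap_symm_right (h𝒳 : FibCat.IsFibGrpd 𝒳.p) (h𝒴 : FibCat.IsFibGrpd 𝒴.p)
    (φ : FIso 𝒳 𝒴) (ζ : AlgSt.Points 𝒴) : ptsMap φ (ptsMap (symmFIso h𝒳 h𝒴 φ) ζ) = ζ :=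
  ptsMap_ptsMap_of_inv _ φ (fun T c => (φ.toEquiv T).apply_symm_apply c) ζ

theorem isCompact_preimage_ptsMap (h𝒳 : AlgSt.IsAlgStack Scheme.fppfPrecoverage 𝒳)
    (h𝒴 : AlgSt.IsAlgStack Scheme.fppfPrecoverage 𝒴) (φ : FIso 𝒳 𝒴)
    (K' : Set (AlgSt.Points 𝒴)) (hK' : IsCompact K') : IsCompact (ptsMap φ ⁻¹' K') := by
  have heq : ptsMap φ ⁻¹' K' = ptsMap (symmFIso h𝒳.isStack.1 h𝒴.isStack.1 φ) '' K' := by
    ext ξ
    constructor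
    · intro hξ
      exact ⟨ptsMap φ ξ, hξ, ptsMap_symm_left _ _ φ ξ⟩
    · rintro ⟨ζ, hζ, rfl⟩
      show ptsMap φ _ ∈ K'
      rw [ptsMap_symm_right]
      exact hζ
  rw [heq]
  exact hK'.image (continuous_ptsMap h𝒳 _)

/-! ### The points of a 2-fibre product -/

theorem range_fpSnd (h𝒳 : FibCat.IsFibGrpd 𝒳.p) (h𝒴 : FibCat.IsFibGrpd 𝒴.p)
    (h𝒵 : FibCat.IsFibGrpd 𝒵.p) (f : 𝒳 ⥤ᵇ 𝒴) (g : 𝒵 ⥤ᵇ 𝒴) :
    Set.range (AlgSt.Points.map (FibCat.fpSnd g f)) =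
      AlgSt.Points.map f ⁻¹' Set.range (AlgSt.Points.map g) := by
  ext x
  constructor
  · rintro ⟨w, rfl⟩
    refine ⟨AlgSt.Points.map (FibCat.fpFst g f) w, ?_⟩
    have h1 := congrFun (points_map_comp (FibCat.fpFst g f) g) w
    have h2 := congrFun (points_map_comp (FibCat.fpSnd g f) f) w
    have h3 := congrFun (points_map_eq_of_iso (FibCat.fpIso g f)) w
    exact h1.symm.trans (h3.trans h2)
  · rintro ⟨z, hz⟩
    obtain ⟨w, -, hw⟩ := exists_fp_point h𝒳 h𝒴 h𝒵 f g z x hz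
    exact ⟨w, hw⟩

theorem fpSnd_full (j : 𝒵 ⥤ᵇ 𝒴) (f : 𝒳 ⥤ᵇ 𝒴) [j.toFunctor.Full] :
    (FibCat.fpSnd j f).toFunctor.Full := by
  constructor
  intro P P' b
  obtain ⟨a, ha⟩ := j.toFunctor.map_surjective (P.obj.iso.hom ≫ f.map b ≫ P'.obj.iso.inv)
  refine ⟨ObjectProperty.homMk ⟨a, b, ?_⟩, rfl⟩
  show j.toFunctor.map a ≫ P'.obj.iso.hom = P.obj.iso.hom ≫ f.map b
  rw [ha]
  simp

theorem isQuasiCompact_of_isOpenImm_of_full (h𝒵 : AlgSt.IsAlgStack Scheme.fppfPrecoverage 𝒵)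
    (h𝒳 : AlgSt.IsAlgStack Scheme.fppfPrecoverage 𝒳) (i : 𝒵 ⥤ᵇ 𝒳) [i.toFunctor.Full]
    (hi : AlgSt.IsOpenImm i) (hc : IsCompact (Set.range (AlgSt.Points.map i))) :
    AlgSt.IsQuasiCompact 𝒵 := by
  have hsm := repSmooth_of_isOpenImm i hi
  have hemb : Topology.IsOpenEmbedding (AlgSt.Points.map i) :=
    Topology.IsOpenEmbedding.of_continuous_injective_isOpenMap (continuous_points_map h𝒳 i)
      (points_map_injective_of_full h𝒵.isStack.1 h𝒳.isStack.1 i)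
      (isOpenMap_points_map h𝒵 h𝒳 i (repFlat_of_smooth i hsm) (repLfp_of_smooth i hsm))
  haveI : CompactSpace (AlgSt.Points 𝒵) := by
    rw [← isCompact_univ_iff, hemb.isInducing.isCompact_iff, Set.image_univ]
    exact hc
  exact isQuasiCompact_of_compactSpace_points h𝒵

theorem exists_isOpen_isCompact_superset (h𝒴 : AlgSt.IsAlgStack Scheme.fppfPrecoverage 𝒴)
    (T : Set (AlgSt.Points 𝒴)) (hT : IsCompact T) :
    ∃ K : Set (AlgSt.Points 𝒴), IsOpen K ∧ IsCompact K ∧ T ⊆ K := by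
  have H := fun t : AlgSt.Points 𝒴 =>
    exists_isOpen_isCompact_nhd h𝒴 t Set.univ isOpen_univ (Set.mem_univ t)
  choose V hVo hVc htV _ using H
  obtain ⟨s, -, hs⟩ := hT.elim_nhds_subcover V (fun t _ => (hVo t).mem_nhds (htV t))
  exact ⟨⋃ t ∈ s, V t, isOpen_biUnion (fun t _ => hVo t),
    s.isCompact_biUnion (fun t _ => hVc t), hs⟩

/-! ### The topological characterisation of quasi-compact morphisms -/

theorem isCompact_preimage_of_forall_openImm (h𝒳 : AlgSt.IsAlgStack Scheme.fppfPrecoverage 𝒳)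
    (h𝒴 : AlgSt.IsAlgStack Scheme.fppfPrecoverage 𝒴) (f : 𝒳 ⥤ᵇ 𝒴)
    (H : ∀ (𝒴' : AlgSt.Cat S), AlgSt.IsAlgStack Scheme.fppfPrecoverage 𝒴' →
      AlgSt.IsQuasiCompact 𝒴' → ∀ (j : 𝒴' ⥤ᵇ 𝒴), AlgSt.IsOpenImm j →
        AlgSt.IsQuasiCompact (FibCat.fp j f))
    (K : Set (AlgSt.Points 𝒴)) (hKo : IsOpen K) (hKc : IsCompact K) :
    IsCompact (AlgSt.Points.map f ⁻¹' K) := by
  have hQ := isOpenSubstack_ptsIn h𝒴 K hKo
  have hr := range_subIncl_ptsIn K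
  have hqcK : AlgSt.IsQuasiCompact (AlgSt.fullSub 𝒴 (ptsIn K)) :=
    isQuasiCompact_of_isOpenImm_of_full hQ.2.1 h𝒴 (AlgSt.subIncl 𝒴 (ptsIn K)) hQ.2.2
      (by rw [hr]; exact hKc)
  have hW := H _ hQ.2.1 hqcK _ hQ.2.2
  have hWa : AlgSt.IsAlgStack Scheme.fppfPrecoverage
      (FibCat.fp (AlgSt.subIncl 𝒴 (ptsIn K)) f) :=
    Groth.Agent.S12763.result h𝒴.isStack h𝒴.diag hQ.2.1 h𝒳 _ f
  haveI := compactSpace_points_of_isQuasiCompact hWa hW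
  have hrange := range_fpSnd h𝒳.isStack.1 h𝒴.isStack.1 hQ.2.1.isStack.1 f
    (AlgSt.subIncl 𝒴 (ptsIn K))
  rw [hr] at hrange
  rw [← hrange]
  exact isCompact_range (continuous_points_map h𝒳 _)

theorem isQuasiCompact_fp_of_factor [QuasiSeparatedSpace S]
    (h𝒳 : AlgSt.IsAlgStack Scheme.fppfPrecoverage 𝒳)
    (h𝒴 : AlgSt.IsAlgStack Scheme.fppfPrecoverage 𝒴)
    (h𝒴d : AlgSt.RepByAlgSpWith AlgSp.IsQuasiCompactMor (FibCat.diag (FibCat.toSelf 𝒴)))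
    (f : 𝒳 ⥤ᵇ 𝒴) {𝒴' : AlgSt.Cat S} (h𝒴' : AlgSt.IsAlgStack Scheme.fppfPrecoverage 𝒴')
    (j : 𝒴' ⥤ᵇ 𝒴) [j.toFunctor.Full] [j.toFunctor.Faithful] (hj : AlgSt.IsOpenImm j)
    (hc : IsCompact (AlgSt.Points.map f ⁻¹' Set.range (AlgSt.Points.map j)))
    (h𝒵 : AlgSt.IsAlgStack Scheme.fppfPrecoverage 𝒵) (hqc : AlgSt.IsQuasiCompact 𝒵)
    (g : 𝒵 ⥤ᵇ 𝒴) (g' : 𝒵 ⥤ᵇ 𝒴') (e : BasedFunctor.comp g' j ≅ g) :
    AlgSt.IsQuasiCompact (FibCat.fp g f) := by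
  have hWa : AlgSt.IsAlgStack Scheme.fppfPrecoverage (FibCat.fp j f) :=
    Groth.Agent.S12763.result h𝒴.isStack h𝒴.diag h𝒴' h𝒳 j f
  haveI := fpSnd_full j f
  have hWqc : AlgSt.IsQuasiCompact (FibCat.fp j f) :=
    isQuasiCompact_of_isOpenImm_of_full hWa h𝒳 (FibCat.fpSnd j f)
      (repByAlgSpWith_fpSnd _ j f hj)
      (by rw [range_fpSnd h𝒳.isStack.1 h𝒴.isStack.1 h𝒴'.isStack.1 f j]; exact hc)
  have h1 := isQuasiCompactMor_toSelf hWa hWqc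
  have h2 : AlgSt.IsQuasiCompactMor Scheme.fppfPrecoverage
      (BasedFunctor.comp (BasedFunctor.comp (FibCat.fpFst j f) j) (FibCat.toSelf 𝒴)) := by
    rw [comp_toSelf]
    exact h1
  have h3 := isQuasiCompactMor_of_comp_of_qs hWa h𝒴 isAlgStack_selfOver
    (BasedFunctor.comp (FibCat.fpFst j f) j) (FibCat.toSelf 𝒴) h2 h𝒴d
  have q1 : AlgSt.IsQuasiCompact (FibCat.fp g (BasedFunctor.comp (FibCat.fpFst j f) j)) :=
    h3 𝒵 h𝒵 hqc g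
  obtain ⟨e₁, -⟩ : ∃ _ : BasedFunctor.comp g' j ≅ BasedFunctor.comp (BasedFunctor.id 𝒵) g,
      True := ⟨e, trivial⟩
  obtain ⟨e₂, -⟩ : ∃ _ : BasedFunctor.comp (FibCat.fpFst j f) j ≅
      BasedFunctor.comp (BasedFunctor.id _) (BasedFunctor.comp (FibCat.fpFst j f) j), True :=
    ⟨Iso.refl _, trivial⟩
  have q2 : AlgSt.IsQuasiCompact (FibCat.fp g' (FibCat.fpFst j f)) :=
    isQuasiCompact_of_isEquivOver' (fpMap e₁ e₂)
      (isEquivOver_fpMap e₁ e₂ (isEquivOver_id _) (isEquivOver_id _)) q1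
  have q3 : AlgSt.IsQuasiCompact (FibCat.fp (BasedFunctor.comp g' j) f) :=
    isQuasiCompact_of_isEquivOver (paste1 g' j f) (isEquivOver_paste1 g' j f) q2
  have := id_full 𝒴
  have := id_faithful 𝒴
  obtain ⟨e₃, -⟩ : ∃ _ : BasedFunctor.comp (BasedFunctor.comp g' j) (BasedFunctor.id 𝒴) ≅
      BasedFunctor.comp (BasedFunctor.id 𝒵) g, True := ⟨e, trivial⟩
  obtain ⟨e₄, -⟩ : ∃ _ : BasedFunctor.comp f (BasedFunctor.id 𝒴) ≅
      BasedFunctor.comp (BasedFunctor.id 𝒳) f, True := ⟨Iso.refl _, trivial⟩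
  exact isQuasiCompact_of_isEquivOver (fpMap e₃ e₄)
    (isEquivOver_fpMap e₃ e₄ (isEquivOver_id _) (isEquivOver_id _)) q3

theorem isQuasiCompactMor_of_isCompact_preimage [QuasiSeparatedSpace S]
    (h𝒳 : AlgSt.IsAlgStack Scheme.fppfPrecoverage 𝒳)
    (h𝒴 : AlgSt.IsAlgStack Scheme.fppfPrecoverage 𝒴)
    (h𝒴d : AlgSt.RepByAlgSpWith AlgSp.IsQuasiCompactMor (FibCat.diag (FibCat.toSelf 𝒴)))
    (f : 𝒳 ⥤ᵇ 𝒴)
    (H : ∀ K : Set (AlgSt.Points 𝒴), IsOpen K → IsCompact K →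
      IsCompact (AlgSt.Points.map f ⁻¹' K)) :
    AlgSt.IsQuasiCompactMor Scheme.fppfPrecoverage f := by
  intro 𝒵 h𝒵 hqc g
  haveI := compactSpace_points_of_isQuasiCompact h𝒵 hqc
  obtain ⟨K, hKo, hKc, hTK⟩ := exists_isOpen_isCompact_superset h𝒴
    (Set.range (AlgSt.Points.map g)) (isCompact_range (continuous_points_map h𝒴 g))
  have hQ := isOpenSubstack_ptsIn h𝒴 K hKo
  have hg' : ∀ w : 𝒵.obj, ptsIn K (g.obj w) := fun w =>
    ptsIn_mono hTK (ptsIn_range_map h𝒵.isStack.1 h𝒴.isStack.1 g w)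
  refine isQuasiCompact_fp_of_factor h𝒳 h𝒴 h𝒴d f hQ.2.1 (AlgSt.subIncl 𝒴 (ptsIn K)) hQ.2.2 ?_
    h𝒵 hqc g (liftSub (ptsIn K) g hg') (Iso.refl _)
  rw [range_subIncl_ptsIn K]
  exact H K hKo hKc

/-- S15482. -/
theorem isQuasiCompactMor_iff_forall_openImm [QuasiSeparatedSpace S]
    (h𝒳 : AlgSt.IsAlgStack Scheme.fppfPrecoverage 𝒳)
    (h𝒴 : AlgSt.IsAlgStack Scheme.fppfPrecoverage 𝒴)
    (h𝒴d : AlgSt.RepByAlgSpWith AlgSp.IsQuasiCompactMor (FibCat.diag (FibCat.toSelf 𝒴)))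
    (f : 𝒳 ⥤ᵇ 𝒴) :
    AlgSt.IsQuasiCompactMor Scheme.fppfPrecoverage f ↔
      ∀ (𝒴' : AlgSt.Cat S), AlgSt.IsAlgStack Scheme.fppfPrecoverage 𝒴' →
        AlgSt.IsQuasiCompact 𝒴' → ∀ (j : 𝒴' ⥤ᵇ 𝒴), AlgSt.IsOpenImm j →
          AlgSt.IsQuasiCompact (FibCat.fp j f) :=
  ⟨fun hf 𝒴' h𝒴' hqc j _ => hf 𝒴' h𝒴' hqc j, fun H =>
    isQuasiCompactMor_of_isCompact_preimage h𝒳 h𝒴 h𝒴d f
      (isCompact_preimage_of_forall_openImm h𝒳 h𝒴 f H)⟩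

/-- S15480. -/
theorem isQuasiCompactMor_of_fIsoSq [QuasiSeparatedSpace S] {𝒳' 𝒴' : AlgSt.Cat S}
    (h𝒳 : AlgSt.IsAlgStack Scheme.fppfPrecoverage 𝒳)
    (h𝒴 : AlgSt.IsAlgStack Scheme.fppfPrecoverage 𝒴)
    (h𝒳' : AlgSt.IsAlgStack Scheme.fppfPrecoverage 𝒳')
    (h𝒴' : AlgSt.IsAlgStack Scheme.fppfPrecoverage 𝒴')
    (h𝒴'd : AlgSt.RepByAlgSpWith AlgSp.IsQuasiCompactMor (FibCat.diag (FibCat.toSelf 𝒴')))
    (f : 𝒳 ⥤ᵇ 𝒴) (f' : 𝒳' ⥤ᵇ 𝒴') (φ : FIsoSq f f')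
    (hf : AlgSt.IsQuasiCompactMor Scheme.fppfPrecoverage f) :
    AlgSt.IsQuasiCompactMor Scheme.fppfPrecoverage f' := by
  refine isQuasiCompactMor_of_isCompact_preimage h𝒳' h𝒴' h𝒴'd f' (fun K' hK'o hK'c => ?_)
  have hKo : IsOpen (ptsMap φ.tgt ⁻¹' K') :=
    (continuous_ptsMap h𝒴' φ.tgt).isOpen_preimage K' hK'o
  have hKc : IsCompact (ptsMap φ.tgt ⁻¹' K') := isCompact_preimage_ptsMap h𝒴 h𝒴' φ.tgt K' hK'c
  have h1 := isCompact_preimage_of_forall_openImm h𝒳 h𝒴 f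
    (fun 𝒴₁ h𝒴₁ hqc j _ => hf 𝒴₁ h𝒴₁ hqc j) _ hKo hKc
  have heq : AlgSt.Points.map f' ⁻¹' K' =
      ptsMap φ.src '' (AlgSt.Points.map f ⁻¹' (ptsMap φ.tgt ⁻¹' K')) := by
    ext x'
    constructor
    · intro hx'
      obtain ⟨x, rfl⟩ := ptsMap_surjective φ.src x'
      refine ⟨x, ?_, rfl⟩
      show ptsMap φ.tgt (AlgSt.Points.map f x) ∈ K'
      rw [ptsMap_map f f' φ x]
      exact hx'
    · rintro ⟨x, hx, rfl⟩
      show AlgSt.Points.map f' (ptsMap φ.src x) ∈ K'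
      rw [← ptsMap_map f f' φ x]
      exact hx
  rw [heq]
  exact h1.image (continuous_ptsMap h𝒳' φ.src)

end Groth.Agent.Lib.Helper16.IsoNatQC
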